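import Groth.Agent.Lib.Jac26.Family
import Groth.Agent.Lib.CurveBase26.Main
import Groth.Agent.Lib.CurveMult.TwistHom
import Groth.Agent.Lib.RelProjK.Local
import Groth.Agent.Lib.HodgeIndex.Pullback
import Groth.Agent.Lib.CurveBase26.H0Div
import Groth.Agent.Lib.GrpSchField.Field
import Groth.Prelude.Def_Jac

/-!
# Divisor classes of the rational points of a Jacobian
-/

set_option autoImplicit false
set_option linter.all false
set_option backward.isDefEq.respectTransparency false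
set_option maxHeartbeats 1000000
set_option synthInstance.maxHeartbeats 200000

universe u

open CategoryTheory CategoryTheory.Limits AlgebraicGeometry Opposite TopologicalSpace
open CategoryTheory MonoidalCategory CartesianMonoidalCategory
open GrothLib.Cube
open GrothLib.CurveRR (place oD)
open GrothLib.CurveMult
open MonObj

noncomputable section

namespace GrothLib.JacSym26

variable {k : Type u} [Field k] [IsAlgClosed k] {C : Scheme.{u}} [IsIntegral C] [CurveRR.RegCurve C]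
  [C.Over (Spec (CommRingCat.of k))] [IsProper (C ↘ Spec (CommRingCat.of k))]
  [Smooth (C ↘ Spec (CommRingCat.of k))] [GeometricallyConnected (C ↘ Spec (CommRingCat.of k))]

/-- The point. -/
abbrev T₀ (k : Type u) [Field k] : Over (Spec (CommRingCat.of k)) := 𝟙_ (Over (Spec (CommRingCat.of k)))

variable (k C) in
/-- The projection to the curve. -/
def pr : PicF.XT (C ↘ Spec (CommRingCat.of k)) (T₀ k) ⟶ C :=
  pullback.fst (C ↘ Spec (CommRingCat.of k)) (T₀ k).hom

omit [IsAlgClosed k] [IsIntegral C] [CurveRR.RegCurve C] [IsProper (C ↘ Spec (CommRingCat.of k))]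
  [Smooth (C ↘ Spec (CommRingCat.of k))] [GeometricallyConnected (C ↘ Spec (CommRingCat.of k))] in
theorem isIso_pr : IsIso (pr k C) := by
  haveI : IsIso (T₀ k).hom := inferInstanceAs (IsIso (𝟙 (Spec (CommRingCat.of k))))
  exact inferInstanceAs (IsIso (pullback.fst (C ↘ Spec (CommRingCat.of k)) (T₀ k).hom))

omit [IsAlgClosed k] [IsIntegral C] [CurveRR.RegCurve C] [IsProper (C ↘ Spec (CommRingCat.of k))]
  [Smooth (C ↘ Spec (CommRingCat.of k))] [GeometricallyConnected (C ↘ Spec (CommRingCat.of k))] in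
theorem pull_pr_injective : Function.Injective (pull (pr k C)) := fun x y h => by
  haveI := isIso_pr (k := k) (C := C)
  have := congrArg (pull (inv (pr k C))) h
  rwa [pull_comp, pull_comp, IsIso.inv_hom_id, pull_id, pull_id] at this

/-- The class of a divisor. -/
def cD (D : FunFld.Divisor k C.functionField) : Pic (PicF.XT (C ↘ Spec (CommRingCat.of k)) (T₀ k)) :=
  pull (pr k C) (clsMod (CurveRR.isInvertible_oD k D))

theorem cD_add (D E : FunFld.Divisor k C.functionField) : cD (D + E) = cD D * cD E := by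
  rw [cD, cD, cD, ← map_mul, ← clsMod_tensorMod]
  exact congrArg _ ((clsMod_eq_iff _ _).2 ⟨(CurveRR.tensorIso k D E).symm⟩)

theorem cD_zero : cD (k := k) (C := C) 0 = 1 := by
  rw [cD, (clsMod_eq_one_iff _).2 ⟨(CurveRR.nonempty_iso_oD_zero k).some.symm⟩, map_one]

theorem cD_eq_iff (D E : FunFld.Divisor k C.functionField) :
    cD D = cD E ↔ D - E ∈ _root_.FunFld.prinDivs k C.functionField := by
  rw [cD, cD, pull_pr_injective.eq_iff, clsMod_eq_iff]
  exact ⟨fun ⟨e⟩ => DivIso.sub_mem_of_iso k e, fun h => DivIso.nonempty_iso_of_sub_mem k h⟩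

theorem exists_cD (n : Pic (PicF.XT (C ↘ Spec (CommRingCat.of k)) (T₀ k))) :
    ∃ D : FunFld.Divisor k C.functionField, n = cD D := by
  haveI := isIso_pr (k := k) (C := C)
  obtain ⟨M, hM, hc⟩ := RigDesc26.exists_module (pull (inv (pr k C)) n)
  haveI := Euler.isNoetherian_of_proper (X := C) k
  obtain ⟨D, ⟨e⟩⟩ := CurveRR.exists_iso_oD k hM
  refine ⟨D, ?_⟩
  rw [cD, ← (clsMod_eq_iff hM (CurveRR.isInvertible_oD k D)).2 ⟨e⟩, hc, pull_comp, IsIso.hom_inv_id, pull_id]

omit [IsAlgClosed k] [IsIntegral C] [CurveRR.RegCurve C] in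
theorem hdim_fiber (hdim : topologicalKrullDim ↥C = 1) (s : ↥(Spec (CommRingCat.of k))) :
    topologicalKrullDim ↥((C ↘ Spec (CommRingCat.of k)).fiber s) = 1 := by
  haveI : Subsingleton ↥(Spec (CommRingCat.of k)) := inferInstanceAs (Subsingleton (PrimeSpectrum k))
  have hr : Set.range ((C ↘ Spec (CommRingCat.of k)).fiberι s) = Set.univ := by
    rw [Scheme.Hom.range_fiberι]; exact Set.eq_univ_of_forall fun a => Subsingleton.elim _ _
  rw [IsHomeomorph.topologicalKrullDim_eq _ ((((C ↘ Spec (CommRingCat.of k)).fiberι s).isEmbedding.toHomeomorph).trans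
      ((Homeomorph.setCongr hr).trans (Homeomorph.Set.univ _))).isHomeomorph, hdim]

omit [IsAlgClosed k] in
theorem deg_cD (D : FunFld.Divisor k C.functionField) (t : ↥(T₀ k).left) :
    Jac26.deg (C ↘ Spec (CommRingCat.of k)) (T₀ k) (cD D) t = FunFld.Divisor.deg D := by
  have hD := CurveRR.isInvertible_oD k D
  rw [cD, ← clsMod_pullback _ hD, Jac26.deg_clsMod]
  haveI : (oD k D).IsQuasicoherent := InvExt.isQuasicoherent_of_isInvertible hD
  haveI : (Coh.structureModule C).IsQuasicoherent :=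
    InvExt.isQuasicoherent_of_isInvertible Euler.isInvertible_structure
  have sq : IsPullback (pr k C) (PicF.XTproj (C ↘ Spec (CommRingCat.of k)) (T₀ k))
      (C ↘ Spec (CommRingCat.of k)) (T₀ k).hom := IsPullback.of_hasPullback _ _
  unfold Groth.Agent.S12409.degAt
  rw [← EulerConst10.fibEuler_congr _ (OX.pullUnitIso (pr k C)) t,
    EulerConst10.fibEuler_baseChange sq (oD k D) t,
    EulerConst10.fibEuler_baseChange sq (Coh.structureModule C) t,
    FGAInt26.fibEuler_point _ (oD k D), FGAInt26.fibEuler_point _ (Coh.structureModule C),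
    ← CurveRR.deg_oD D, Curv2.deg]
  push_cast
  ring

omit [IsAlgClosed k] [IsIntegral C] [CurveRR.RegCurve C] in
/-- An invertible module of degree zero at all points is an admissible family. -/
theorem ok_of_deg (T : Over (Spec (CommRingCat.of k)))
    (L : (PicF.XT (C ↘ Spec (CommRingCat.of k)) T).Modules) (hL : PicF.IsInvertible L)
    (h : ∀ t, Jac26.deg (C ↘ Spec (CommRingCat.of k)) T (clsMod hL) t = 0) :
    (ModFun.PicDeg (C ↘ Spec (CommRingCat.of k)) 0).ok T L := by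
  refine ⟨⟨trivial, fun y => by
    obtain ⟨U, hy, ⟨φ⟩⟩ := hL y
    exact ⟨U, hy, ⟨φ ≪≫ (coproductUniqueIso fun _ : Fin 1 => Coh.structureModule (↑U)).symm⟩⟩⟩, fun Ω _ _ t => ?_⟩
  let g : Over.mk (t ≫ T.hom) ⟶ T := Over.homMk t rfl
  have h1 := Jac26.deg_pull (C ↘ Spec (CommRingCat.of k)) g (clsMod hL) (IsLocalRing.closedPoint Ω)
  rw [h, ← clsMod_pullback _ hL, Jac26.deg_clsMod] at h1
  let p : PicF.XT (C ↘ Spec (CommRingCat.of k)) (Over.mk (t ≫ T.hom)) ⟶ Spec (CommRingCat.of Ω) :=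
    PicF.XTproj (C ↘ Spec (CommRingCat.of k)) (Over.mk (t ≫ T.hom))
  haveI : IsProper p := inferInstanceAs (IsProper (pullback.snd _ _))
  haveI : ((Scheme.Modules.pullback (PicF.XTmap (C ↘ Spec (CommRingCat.of k)) g)).obj L).IsQuasicoherent :=
    InvExt.isQuasicoherent_of_isInvertible (Ample.isInvertible_pullback _ hL)
  haveI : (Coh.structureModule (PicF.XT (C ↘ Spec (CommRingCat.of k)) (Over.mk (t ≫ T.hom)))).IsQuasicoherent :=
    InvExt.isQuasicoherent_of_isInvertible Euler.isInvertible_structure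
  change EulerConst10.fibEuler p _ _ - EulerConst10.fibEuler p _ _ = 0 at h1
  rw [FGAInt26.fibEuler_point p _, FGAInt26.fibEuler_point p _] at h1
  show @Curv2.deg Ω _ _ ⟨p⟩ ((Scheme.Modules.pullback (PicF.XTmap (C ↘ Spec (CommRingCat.of k)) g)).obj L) 1 = 0
  rw [Curv2.deg]
  push_cast
  linarith [h1]

omit [IsAlgClosed k] [IsIntegral C] [CurveRR.RegCurve C] in
/-- An admissible family over the point has degree zero. -/
theorem deg_of_ok [IsAlgClosed k] (L : (PicF.XT (C ↘ Spec (CommRingCat.of k)) (T₀ k)).Modules)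
    (hok : (ModFun.PicDeg (C ↘ Spec (CommRingCat.of k)) 0).ok (T₀ k) L) (hL : PicF.IsInvertible L)
    (t : ↥(T₀ k).left) : Jac26.deg (C ↘ Spec (CommRingCat.of k)) (T₀ k) (clsMod hL) t = 0 := by
  haveI : Subsingleton ↥(T₀ k).left := inferInstanceAs (Subsingleton (PrimeSpectrum k))
  have h0 := hok.2 k (𝟙 _)
  let g : Over.mk (𝟙 (Spec (CommRingCat.of k)) ≫ (T₀ k).hom) ⟶ T₀ k := Over.homMk (𝟙 _) rfl
  rw [Subsingleton.elim t (g.left (IsLocalRing.closedPoint k)),
    ← Jac26.deg_pull (C ↘ Spec (CommRingCat.of k)) g (clsMod hL) (IsLocalRing.closedPoint k),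
    ← clsMod_pullback _ hL, Jac26.deg_clsMod]
  let p : PicF.XT (C ↘ Spec (CommRingCat.of k)) (Over.mk (𝟙 (Spec (CommRingCat.of k)) ≫ (T₀ k).hom)) ⟶
      Spec (CommRingCat.of k) := PicF.XTproj (C ↘ Spec (CommRingCat.of k)) _
  haveI : IsProper p := inferInstanceAs (IsProper (pullback.snd _ _))
  haveI : ((Scheme.Modules.pullback (PicF.XTmap (C ↘ Spec (CommRingCat.of k)) g)).obj L).IsQuasicoherent :=
    InvExt.isQuasicoherent_of_isInvertible (Ample.isInvertible_pullback _ hL)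
  haveI : (Coh.structureModule (PicF.XT (C ↘ Spec (CommRingCat.of k))
      (Over.mk (𝟙 (Spec (CommRingCat.of k)) ≫ (T₀ k).hom)))).IsQuasicoherent :=
    InvExt.isQuasicoherent_of_isInvertible Euler.isInvertible_structure
  change EulerConst10.fibEuler p _ _ - EulerConst10.fibEuler p _ _ = 0
  rw [FGAInt26.fibEuler_point p _, FGAInt26.fibEuler_point p _]
  change @Curv2.deg k _ _ ⟨p⟩ ((Scheme.Modules.pullback (PicF.XTmap (C ↘ Spec (CommRingCat.of k)) g)).obj L) 1 = 0 at h0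
  rw [Curv2.deg] at h0
  push_cast at h0
  linarith [h0]

section Jacobian

variable {J : Over (Spec (CommRingCat.of k))} [GrpObj J]
  (ψ : (ModFun.PicDeg (C ↘ Spec (CommRingCat.of k)) 0).Hom ⊤ J)

/-- `ξ` is the point of the class of `D`. -/
def Pt (D : FunFld.Divisor k C.functionField) (ξ : T₀ k ⟶ J) : Prop :=
  ∃ (L : (PicF.XT (C ↘ Spec (CommRingCat.of k)) (T₀ k)).Modules) (h : PicF.IsInvertible L)
    (hok : (ModFun.PicDeg (C ↘ Spec (CommRingCat.of k)) 0).ok (T₀ k) L),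
    clsMod h = cD D ∧ ψ.app (T₀ k) L trivial hok = ξ

variable {ψ}

theorem Pt.exists_pt {D : FunFld.Divisor k C.functionField} (hD : FunFld.Divisor.deg D = 0) :
    ∃ ξ, Pt ψ D ξ := by
  have hL := Ample.isInvertible_pullback (pr k C) (CurveRR.isInvertible_oD k D)
  have hc : clsMod hL = cD D := clsMod_pullback _ _
  exact ⟨_, _, hL, ok_of_deg (T₀ k) _ hL (fun t => by rw [hc, deg_cD, hD]), hc, rfl⟩

theorem Pt.deg_eq {D : FunFld.Divisor k C.functionField} {ξ : T₀ k ⟶ J} (h : Pt ψ D ξ) :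
    FunFld.Divisor.deg D = 0 := by
  obtain ⟨L, hL, hok, hc, -⟩ := h
  rw [← deg_cD D (IsLocalRing.closedPoint k), ← hc, deg_of_ok L hok hL]

theorem Pt.eq_of_sub_mem {D E : FunFld.Divisor k C.functionField} {ξ ζ : T₀ k ⟶ J} (h : Pt ψ D ξ) (h' : Pt ψ E ζ)
    (hDE : D - E ∈ _root_.FunFld.prinDivs k C.functionField) : ξ = ζ := by
  obtain ⟨L, hL, hok, hc, rfl⟩ := h
  obtain ⟨L', hL', hok', hc', rfl⟩ := h'
  obtain ⟨e⟩ := (clsMod_eq_iff hL hL').1 (by rw [hc, hc', (cD_eq_iff D E).2 hDE])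
  refine ψ.resp L L' trivial hok hok' ⟨Coh.structureModule (T₀ k).left, Euler.isInvertible_structure, ?_⟩
  refine (clsMod_eq_iff hL' (Ample.isInvertible_tensorMod hL (Ample.isInvertible_pullback _ Euler.isInvertible_structure))).1 ?_
  rw [clsMod_tensorMod hL (Ample.isInvertible_pullback _ Euler.isInvertible_structure), clsMod_pullback _ Euler.isInvertible_structure, (clsMod_eq_one_iff _).2 ⟨Iso.refl _⟩, map_one, _root_.mul_one, hc, hc',
    (cD_eq_iff D E).2 hDE]

theorem Pt.mul (hJ : Jac.IsJacobian (C ↘ Spec (CommRingCat.of k)) ⊤ J ψ) {D E : FunFld.Divisor k C.functionField}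
    {ξ ζ : T₀ k ⟶ J} (h : Pt ψ D ξ) (h' : Pt ψ E ζ) : Pt ψ (D + E) (ξ * ζ) := by
  have hd : FunFld.Divisor.deg (D + E) = 0 := by rw [GrothLib.FunFld.deg_add, h.deg_eq, h'.deg_eq, add_zero]
  obtain ⟨L, hL, hok, hc, rfl⟩ := h
  obtain ⟨L', hL', hok', hc', rfl⟩ := h'
  have hN := Ample.isInvertible_tensorMod hL hL'
  have hcN : clsMod hN = cD (D + E) := by rw [clsMod_tensorMod hL hL', hc, hc', cD_add]
  have hokN := ok_of_deg (T₀ k) _ hN (fun t => by rw [hcN, deg_cD, hd])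
  exact ⟨_, hN, hokN, hcN, hJ.mul (T₀ k) trivial L L' _ hok hok' hokN ⟨Iso.refl _⟩⟩

theorem Pt.one (hJ : Jac.IsJacobian (C ↘ Spec (CommRingCat.of k)) ⊤ J ψ) : Pt ψ 0 1 := by
  obtain ⟨ξ, hξ⟩ := Pt.exists_pt (ψ := ψ) (D := 0) GrothLib.FunFld.deg_zero
  have h2 := hξ.mul hJ hξ
  rw [add_zero] at h2
  have h3 : ξ * ξ = ξ := h2.eq_of_sub_mem hξ (by rw [sub_self]; exact zero_mem _)
  rwa [mul_eq_left.1 h3] at hξ

theorem Pt.sub_mem (hJ : Jac.IsJacobian (C ↘ Spec (CommRingCat.of k)) ⊤ J ψ) {D E : FunFld.Divisor k C.functionField}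
    {ξ : T₀ k ⟶ J} (h : Pt ψ D ξ) (h' : Pt ψ E ξ) : D - E ∈ _root_.FunFld.prinDivs k C.functionField := by
  obtain ⟨L, hL, hok, hc, hξ⟩ := h
  obtain ⟨L', hL', hok', hc', hξ'⟩ := h'
  obtain ⟨M, hM, ⟨e⟩⟩ := (hJ.coarse.2.2 k (𝟙 _) trivial).2 L L' hok hok' (hξ.trans hξ'.symm)
  have e1 := (clsMod_eq_iff hL' (Ample.isInvertible_tensorMod hL (Ample.isInvertible_pullback _ hM))).2 ⟨e⟩
  have h1 : clsMod hM = 1 := PicTan26.pic_local_eq_one _
  rw [clsMod_tensorMod hL (Ample.isInvertible_pullback _ hM), clsMod_pullback _ hM, h1, map_one, _root_.mul_one, hc, hc'] at e1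
  exact (cD_eq_iff D E).1 e1.symm

theorem Pt.exists_div (hJ : Jac.IsJacobian (C ↘ Spec (CommRingCat.of k)) ⊤ J ψ) (ξ : T₀ k ⟶ J) :
    ∃ D, Pt ψ D ξ := by
  obtain ⟨L, hok, hξ⟩ := (hJ.coarse.2.2 k (𝟙 _) trivial).1 ξ
  have hL : PicF.IsInvertible L := CurveMult.isInvertible_of_rank_one hok.1.2
  obtain ⟨D, hD⟩ := exists_cD (clsMod hL)
  exact ⟨D, L, hL, hok, hD, hξ⟩

/-- The Abel map on rational points. -/
theorem Pt.abel (hdim : topologicalKrullDim ↥C = 1) (σ : Spec (CommRingCat.of k) ⟶ C)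
    (hσ : σ ≫ (C ↘ Spec (CommRingCat.of k)) = 𝟙 _) {j : Over.mk (C ↘ Spec (CommRingCat.of k)) ⟶ J}
    (hj : Jac.IsAbelJacobiAt (C ↘ Spec (CommRingCat.of k)) σ ψ j) (Q : CurveRR.CP C) (hQ : ∀ p, σ p = Q.1)
    (t : T₀ k ⟶ Over.mk (C ↘ Spec (CommRingCat.of k))) (R : CurveRR.CP C) (hR : ∀ p, t.left p = R.1) :
    Pt ψ (Finsupp.single (place k R) 1 - Finsupp.single (place k Q) 1) (t ≫ j) := by
  obtain ⟨hP, L, hok, ⟨hLi, ⟨eL⟩⟩, rfl⟩ := hj
  have hf := hdim_fiber (k := k) hdim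
  have ht : t.left ≫ (C ↘ Spec (CommRingCat.of k)) = 𝟙 _ := Over.w t
  haveI : Subsingleton ↥(Spec (CommRingCat.of k)) := inferInstanceAs (Subsingleton (PrimeSpectrum k))
  haveI : Subsingleton ↥(T₀ k).left := inferInstanceAs (Subsingleton (PrimeSpectrum k))
  haveI : IsClosedImmersion t.left := isClosedImmersion_of_comp_eq_id _ _ ht
  haveI : IsClosedImmersion σ := isClosedImmersion_of_comp_eq_id _ _ hσ
  obtain ⟨Q', hQ', -, ⟨eQ⟩⟩ := CurveBase26.exists_point k (X := C) hdim σ hσ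
  have hQQ : Q' = Q := Subtype.ext ((hQ' (IsLocalRing.closedPoint k)).symm.trans (hQ _))
  obtain ⟨R', hR', -, ⟨eR⟩⟩ := CurveBase26.exists_point k (X := C) hdim t.left ht
  have hRR : R' = R := Subtype.ext ((hR' (IsLocalRing.closedPoint k)).symm.trans (hR _))
  rw [hQQ] at eQ
  rw [hRR] at eR
  let m := PicF.XTmap (C ↘ Spec (CommRingCat.of k)) t
  have hIσ : PicF.IsInvertible (ClSub.idealMod σ.ker) :=
    (RelProjK.isInvertible_of_iso eQ (CurveRR.isInvertible_oD k _))
  have hIR : PicF.IsInvertible (ClSub.idealMod (Scheme.Hom.ker (Y := C) t.left)) :=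
    (RelProjK.isInvertible_of_iso (X := C) eR (CurveRR.isInvertible_oD k (X := C) _))
  have hΔ := Jac26.isInvertible_idealMod (C ↘ Spec (CommRingCat.of k)) hf
    (Over.mk (C ↘ Spec (CommRingCat.of k))) (pullback.diagonal _) (pullback.diagonal_snd _)
  have e1 := congrArg (pull m) ((clsMod_eq_iff (Ample.isInvertible_tensorMod hLi hΔ)
    (Ample.isInvertible_pullback (pullback.fst (C ↘ Spec (CommRingCat.of k)) (C ↘ Spec (CommRingCat.of k))) hIσ)).2 ⟨eL⟩)
  rw [clsMod_tensorMod hLi hΔ, clsMod_pullback _ hIσ, map_mul, pull_comp] at e1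
  have hm : m ≫ pullback.fst (C ↘ Spec (CommRingCat.of k)) (C ↘ Spec (CommRingCat.of k)) = pr k C :=
    (pullback.lift_fst _ _ _).trans (Category.comp_id _)
  rw [hm, (clsMod_eq_iff hIσ (CurveRR.isInvertible_oD k _)).2 ⟨eQ⟩] at e1
  change pull m (clsMod hLi) * Jac26.ptI (C ↘ Spec (CommRingCat.of k)) hf t = cD _ at e1
  obtain ⟨hS, hS'⟩ := Jac26.hasCls_ptI (C ↘ Spec (CommRingCat.of k)) hf t
  have hsec : Jac26.sec (C ↘ Spec (CommRingCat.of k)) t ≫ pr k C = 𝟙 _ ≫ t.left :=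
    (Jac26.sec_fst (C ↘ Spec (CommRingCat.of k)) t).trans (Category.id_comp _).symm
  haveI := isIso_pr (k := k) (C := C)
  have sqs : IsPullback (𝟙 (T₀ k).left) (Jac26.sec (C ↘ Spec (CommRingCat.of k)) t) t.left (pr k C) :=
    IsPullback.of_horiz_isIso ⟨hsec.symm⟩
  have hker : (Jac26.sec (C ↘ Spec (CommRingCat.of k)) t).ker = t.left.ker.comap (pr k C) := by
    rw [← sqs.flip.isoPullback_hom_fst, Scheme.Hom.ker_comp_of_isIso,
      Scheme.IdealSheafData.ker_fst_of_isClosedImmersion]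
  obtain ⟨eS⟩ := HodgeIndex.nonempty_pullback_idealMod t.left (Jac26.sec (C ↘ Spec (CommRingCat.of k)) t) (𝟙 _) _
    hsec hker hIR hS
  have e2 : Jac26.ptI (C ↘ Spec (CommRingCat.of k)) hf t = cD (-Finsupp.single (place k R) 1) := by
    rw [← hS', cD, ← (clsMod_eq_iff (X := C) hIR (CurveRR.isInvertible_oD k (X := C) _)).2 ⟨eR⟩]
    refine Eq.trans ?_ (clsMod_pullback (pr k C) hIR)
    exact (clsMod_eq_iff _ _).2 ⟨eS.symm⟩
  rw [e2] at e1
  have hc : clsMod (Ample.isInvertible_pullback m hLi) =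
      cD (Finsupp.single (place k R) 1 - Finsupp.single (place k Q) 1) := by
    rw [clsMod_pullback m hLi, ← mul_right_cancel_iff (a := cD (-Finsupp.single (place k R) 1)), e1, ← cD_add]
    congr 1
    abel
  have hok' := ok_of_deg (T₀ k) _ (Ample.isInvertible_pullback m hLi) (fun p => by
    rw [hc, deg_cD, GrothLib.FunFld.deg_sub, GrothLib.FunFld.deg_single, GrothLib.FunFld.deg_single,
      GrothLib.FunFld.IsFG.deg_eq_one (CurveRR.isFG k), GrothLib.FunFld.IsFG.deg_eq_one (CurveRR.isFG k), sub_self])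
  exact ⟨_, _, hok', hc, ψ.natural t L hP trivial hok hok'⟩

end Jacobian

end GrothLib.JacSym26
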