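import Groth.Agent.Lib.JacSym26.Points
import Groth.Agent.Lib.CurveMult.OmegaField

/-!
# The criterion for a rational point to lie in `W_m`, and the canonical point
-/

set_option autoImplicit false
set_option linter.all false
set_option backward.isDefEq.respectTransparency false
set_option maxHeartbeats 1000000
set_option synthInstance.maxHeartbeats 200000

universe u

open CategoryTheory CategoryTheory.Limits AlgebraicGeometry Opposite TopologicalSpace
open CategoryTheory MonoidalCategory CartesianMonoidalCategory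
open MonObj
open GrothLib.Cube
open GrothLib.CurveRR (place oD)

noncomputable section

namespace GrothLib.JacSym26

variable {k : Type u} [Field k] {C : Scheme.{u}} [C.Over (Spec (CommRingCat.of k))]
  {J : Over (Spec (CommRingCat.of k))} [GrpObj J] (j : Cc k C ⟶ J)

theorem comp_inv' {A B : Over (Spec (CommRingCat.of k))} (ξ : A ⟶ B) (g : B ⟶ J) : ξ ≫ g⁻¹ = (ξ ≫ g)⁻¹ := by
  refine eq_inv_of_mul_eq_one_left ?_
  rw [← MonObj.comp_mul, _root_.inv_mul_cancel, MonObj.comp_one]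

theorem inv_comp_inv : (𝟙 J)⁻¹ ≫ (𝟙 J)⁻¹ = 𝟙 J := by
  rw [comp_inv', Category.comp_id, inv_inv]

theorem image_inv (R : Set ↥J.left) :
    ((𝟙 J)⁻¹ : J ⟶ J).left '' R = ((𝟙 J)⁻¹ : J ⟶ J).left ⁻¹' R := by
  refine congrFun (Set.image_eq_preimage_of_inverse (fun y => ?_) (fun y => ?_)) R <;>
  · rw [← Scheme.Hom.comp_apply, ← Over.comp_left, inv_comp_inv]; rfl

theorem inv_apply (ξ : T₀ k ⟶ J) (p : ↥(T₀ k).left) :
    ((𝟙 J)⁻¹ : J ⟶ J).left (ξ.left p) = (ξ⁻¹).left p := by
  rw [← Category.comp_id ξ, ← comp_inv', Category.comp_id]; rfl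

section proper

variable [IsProper (C ↘ Spec (CommRingCat.of k))] [IsAlgClosed k]

/-- Inclusions of closed sets on the image of a power are tested on rational points. -/
theorem inter_subset_of (m : ℕ) (Φ : J ⟶ J) (Z Z' : Set ↥J.left) (hZ : IsClosed Z) (hZ' : IsClosed Z')
    (h : ∀ ξ ∈ W j m, (∀ p, (ξ ≫ Φ).left p ∈ Z) → ∀ p, (ξ ≫ Φ).left p ∈ Z') :
    Φ.left '' Set.range (q j m).left ∩ Z ⊆ Z' := by
  rintro y ⟨⟨_, ⟨z, rfl⟩, rfl⟩, hy⟩
  haveI := jacobson (k := k) (C := C) m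
  haveI : Subsingleton ↥(Spec (CommRingCat.of k)) := inferInstanceAs (Subsingleton (PrimeSpectrum k))
  let Y : Set ↥(Cp k C m).left := (q j m).left ⁻¹' (Φ.left ⁻¹' Z)
  have hY : IsClosed Y := (hZ.preimage Φ.left.continuous).preimage (q j m).left.continuous
  have hsub : Y ∩ closedPoints ↥(Cp k C m).left ⊆ (q j m).left ⁻¹' (Φ.left ⁻¹' Z') := by
    rintro w ⟨hw, hwc⟩
    obtain ⟨x, hx⟩ := exists_pt hwc
    have := h _ (comp_q_mem j x) (fun p => by
      show Φ.left ((q j m).left (x.left p)) ∈ Z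
      rw [hx]; exact hw) (IsLocalRing.closedPoint k)
    simp only [Set.mem_preimage]
    rw [← hx (IsLocalRing.closedPoint k)]
    exact this
  have := closure_minimal hsub ((hZ'.preimage Φ.left.continuous).preimage (q j m).left.continuous)
  rw [closure_inter_closedPoints hY] at this
  exact this hy

theorem subset_of (m : ℕ) (Φ : J ⟶ J) (Z' : Set ↥J.left) (hZ' : IsClosed Z')
    (h : ∀ ξ ∈ W j m, ∀ p, (ξ ≫ Φ).left p ∈ Z') : Φ.left '' Set.range (q j m).left ⊆ Z' := fun y hy =>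
  inter_subset_of j m Φ Set.univ Z' isClosed_univ hZ' (fun ξ hξ _ => h ξ hξ) ⟨hy, trivial⟩

theorem isClosed_image_transl (b : T₀ k ⟶ J) {R : Set ↥J.left} (hR : IsClosed R) :
    IsClosed ((Jac.transl J b).left '' R) := by
  rw [image_transl]; exact hR.preimage (Jac.transl J b⁻¹).left.continuous

theorem isClosed_image_inv {R : Set ↥J.left} (hR : IsClosed R) :
    IsClosed (((𝟙 J)⁻¹ : J ⟶ J).left '' R) := by
  rw [image_inv]; exact hR.preimage ((𝟙 J)⁻¹ : J ⟶ J).left.continuous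

/-- The rational points of a translate. -/
theorem mem_image_transl_range (m : ℕ) (b ξ : T₀ k ⟶ J) :
    (∀ p, ξ.left p ∈ (Jac.transl J b).left '' Set.range (q j m).left) ↔ ξ * b⁻¹ ∈ W j m := by
  rw [← mem_range_q, image_transl]
  refine forall_congr' fun p => ?_
  rw [Set.mem_preimage, transl_apply]

/-- The rational points of a reflected translate. -/
theorem mem_image_reflect (m : ℕ) (κ c ξ : T₀ k ⟶ J) :
    (∀ p, ξ.left p ∈ (Jac.transl J κ).left '' (((𝟙 J)⁻¹ : J ⟶ J).left ''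
      ((Jac.transl J c).left '' Set.range (q j m).left))) ↔ (ξ * κ⁻¹)⁻¹ * c⁻¹ ∈ W j m := by
  rw [← mem_range_q, image_transl κ, image_inv, image_transl c]
  refine forall_congr' fun p => ?_
  simp only [Set.mem_preimage]
  rw [transl_apply, inv_apply, transl_apply]

end proper

section curve

variable [IsAlgClosed k] [IsIntegral C] [CurveRR.RegCurve C] [IsProper (C ↘ Spec (CommRingCat.of k))]
  [Smooth (C ↘ Spec (CommRingCat.of k))] [GeometricallyConnected (C ↘ Spec (CommRingCat.of k))]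
  {ψ : (ModFun.PicDeg (C ↘ Spec (CommRingCat.of k)) 0).Hom ⊤ J}
  (hJ : Jac.IsJacobian (C ↘ Spec (CommRingCat.of k)) ⊤ J ψ)

theorem Pt.div (hJ : Jac.IsJacobian (C ↘ Spec (CommRingCat.of k)) ⊤ J ψ) {D E : FunFld.Divisor k C.functionField}
    {ξ η' : T₀ k ⟶ J} (h : Pt ψ D ξ) (h' : Pt ψ E η') : Pt ψ (D - E) (ξ * η'⁻¹) := by
  obtain ⟨ζ, hζ⟩ := Pt.exists_pt (ψ := ψ) (D := -E)
    (by rw [show -E = 0 - E by abel, GrothLib.FunFld.deg_sub, h'.deg_eq, GrothLib.FunFld.deg_zero, sub_zero])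
  have h1 := (h'.mul hJ hζ)
  rw [add_neg_cancel] at h1
  have : η' * ζ = 1 := h1.eq_of_sub_mem (Pt.one hJ) (by rw [sub_self]; exact zero_mem _)
  rw [← eq_inv_of_mul_eq_one_right this, sub_eq_add_neg]
  exact h.mul hJ hζ

variable (hdim : topologicalKrullDim ↥C = 1) (σ : Spec (CommRingCat.of k) ⟶ C)
  (hσ : σ ≫ (C ↘ Spec (CommRingCat.of k)) = 𝟙 _)
  (hj : Jac.IsAbelJacobiAt (C ↘ Spec (CommRingCat.of k)) σ ψ j) (Q : CurveRR.CP C) (hQ : ∀ p, σ p = Q.1)

theorem cD_nsmul (m : ℕ) (D : FunFld.Divisor k C.functionField) : cD (m • D) = cD D ^ m := by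
  induction m with
  | zero => rw [zero_smul, pow_zero, cD_zero]
  | succ m ih => rw [succ_nsmul, pow_succ, cD_add, ih]

omit [Smooth (C ↘ Spec (CommRingCat.of k))] [GeometricallyConnected (C ↘ Spec (CommRingCat.of k))] in
theorem ell_congr {A B : FunFld.Divisor k C.functionField}
    (h : A - B ∈ _root_.FunFld.prinDivs k C.functionField) : _root_.FunFld.ell A = _root_.FunFld.ell B := by
  have hfg := CurveRR.isFG (X := C) k
  obtain ⟨f, hf0, hf⟩ := (GrothLib.FunFld.mem_prinDivs_iff hfg _).1 h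
  rw [show A = B + _root_.FunFld.div k f by rw [hf]; abel, hfg.ell_add_div _ hf0]

include hJ hdim hσ hj hQ in
/-- The points of `W_m` are the classes with a nonzero section. -/
theorem mem_W_iff {m : ℕ} {D : FunFld.Divisor k C.functionField} {ξ : T₀ k ⟶ J} (hD : Pt ψ D ξ) :
    ξ ∈ W j m ↔ 0 < _root_.FunFld.ell (D + (m : ℤ) • Finsupp.single (place k Q) 1) := by
  have hfg := CurveRR.isFG (X := C) k
  have h0 := CurveMult.finrank_H0_eq_one_of_geometricallyConnected k (C := C)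
  have hK := CurveRR.isFunctionField k h0
  have hdeg1 : ∀ R : CurveRR.CP C, (place k R).deg = 1 := fun R => hfg.deg_eq_one _
  constructor
  · rintro ⟨t, rfl⟩
    choose R hR hRd hRiso using fun i => CurveBase26.exists_point k (X := C) hdim (t i).left (Over.w (t i))
    have hm := hD.sub_mem hJ (pt_prod j hJ hdim σ hσ hj Q hQ m t R hR)
    rw [ell_congr (B := ∑ i, Finsupp.single (place k (R i)) 1) (by
      convert hm using 1; abel)]
    have h1 := GrothLib.FunFld.ell_zero hK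
    have h2 := hfg.ell_mono (D₁ := (0 : FunFld.Divisor k C.functionField))
      (D₂ := ∑ i, Finsupp.single (place k (R i)) 1) (Finset.sum_nonneg fun i _ => Finsupp.single_nonneg.2 zero_le_one)
    omega
  · intro hell
    obtain ⟨x, hx0, -, hx⟩ := hfg.exists_of_ell_pos hell
    obtain ⟨P, hP⟩ := pts_of_effective hfg m _ hx (by
      rw [GrothLib.FunFld.deg_add, hfg.deg_div, GrothLib.FunFld.deg_add, hD.deg_eq, Finsupp.smul_single,
        GrothLib.FunFld.deg_single, hdeg1]
      simp)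
    choose R hR using fun i => CurveRR.place_surjective (X := C) (P i)
    choose t ht using fun i => exists_t (k := k) (R i)
    rw [hD.eq_of_sub_mem (pt_prod j hJ hdim σ hσ hj Q hQ m t R ht) ?_]
    · exact ⟨t, rfl⟩
    · simp only [hR]
      rw [← hP, show D - (D + (m : ℤ) • Finsupp.single (place k Q) 1 + _root_.FunFld.div k x -
        (m : ℤ) • Finsupp.single (place k Q) 1) = -_root_.FunFld.div k x by abel]
      exact neg_mem (AddSubgroup.subset_closure ⟨x, rfl⟩)

include hdim hσ hQ in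
/-- The point of a twisted canonical module. -/
theorem pt_kappa (m : ℕ) (Kf : (PicF.XT (C ↘ Spec (CommRingCat.of k)) (T₀ k)).Modules)
    (hKf : Nonempty (Kf ≅ (Scheme.Modules.pullback (pr k C)).obj
      (CohB1.tensorMod (Omega.sheaf (C ↘ Spec (CommRingCat.of k))) (CohB1.tensorPow (ClSub.idealMod σ.ker) m))))
    (hok : (ModFun.PicDeg (C ↘ Spec (CommRingCat.of k)) 0).ok (T₀ k) Kf) :
    ∃ K, _root_.FunFld.IsCanonical k C.functionField K ∧
      Pt ψ (K - (m : ℤ) • Finsupp.single (place k Q) 1) (ψ.app (T₀ k) Kf trivial hok) := by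
  have h0 := CurveMult.finrank_H0_eq_one_of_geometricallyConnected k (C := C)
  obtain ⟨K, hK, ⟨eΩ⟩⟩ := CurveMult.OmegaField.exists_iso_canonical k (X := C) hdim h0
  obtain ⟨Q', hQ', -, ⟨eQ⟩⟩ := CurveBase26.exists_point k (X := C) hdim σ hσ
  have hQQ : Q' = Q := Subtype.ext ((hQ' (IsLocalRing.closedPoint k)).symm.trans (hQ _))
  rw [hQQ] at eQ
  obtain ⟨eK⟩ := hKf
  have hΩ : PicF.IsInvertible (Omega.sheaf (C ↘ Spec (CommRingCat.of k))) :=
    RelProjK.isInvertible_of_iso eΩ (CurveRR.isInvertible_oD k _)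
  have hI : PicF.IsInvertible (ClSub.idealMod σ.ker) := RelProjK.isInvertible_of_iso eQ (CurveRR.isInvertible_oD k _)
  have hP := Ample.isInvertible_tensorPow hI m
  have hKi : PicF.IsInvertible Kf :=
    RelProjK.isInvertible_of_iso eK (Ample.isInvertible_pullback _ (Ample.isInvertible_tensorMod hΩ hP))
  refine ⟨K, hK, Kf, hKi, hok, ?_, rfl⟩
  rw [(clsMod_eq_iff hKi (Ample.isInvertible_pullback _ (Ample.isInvertible_tensorMod hΩ hP))).2 ⟨eK⟩,
    clsMod_pullback _ (Ample.isInvertible_tensorMod hΩ hP), clsMod_tensorMod hΩ hP, clsMod_tensorPow hI m,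
    (clsMod_eq_iff hΩ (CurveRR.isInvertible_oD k _)).2 ⟨eΩ⟩,
    (clsMod_eq_iff hI (CurveRR.isInvertible_oD k _)).2 ⟨eQ⟩, map_mul, map_pow]
  show cD K * cD (-Finsupp.single (place k Q) 1) ^ m = cD _
  rw [← cD_nsmul, ← cD_add]
  congr 1
  rw [natCast_zsmul, smul_neg, sub_eq_add_neg]

end curve

end GrothLib.JacSym26
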