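import Groth.Agent.Lib.JacSym26.Cls
import Groth.Agent.Lib.CurveBase26.GenPts
import Groth.Agent.Lib.BlowUp6.WidePullback
import Groth.Agent.Lib.FunFld.CliffordIndex

/-!
# Rational points of the images of the powers of a curve in its Jacobian
-/

set_option autoImplicit false
set_option linter.all false
set_option backward.isDefEq.respectTransparency false
set_option maxHeartbeats 1000000
set_option synthInstance.maxHeartbeats 200000

universe u

open CategoryTheory CategoryTheory.Limits AlgebraicGeometry Opposite TopologicalSpace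
open CategoryTheory MonoidalCategory CartesianMonoidalCategory
open MonObj
open GrothLib.CurveRR (place oD)

noncomputable section

namespace GrothLib.JacSym26

section pts

variable {k : Type u} [Field k]

/-- Two rational points of a separated scheme over a field with the same image are equal. -/
theorem hom_ext_pt {X : Scheme.{u}} (h : X ⟶ Spec (CommRingCat.of k)) [IsSeparated h]
    {f g : Spec (CommRingCat.of k) ⟶ X} (hf : f ≫ h = 𝟙 _) (hg : g ≫ h = 𝟙 _)
    (H : f (IsLocalRing.closedPoint k) = g (IsLocalRing.closedPoint k)) : f = g := by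
  haveI : Subsingleton ↥(Spec (CommRingCat.of k)) := inferInstanceAs (Subsingleton (PrimeSpectrum k))
  haveI := isClosedImmersion_of_comp_eq_id h f hf
  haveI : Surjective (pullback.snd f g) := ⟨fun p => by
    obtain ⟨z, -, hz⟩ := Scheme.Pullback.exists_preimage_pullback (f := f) (g := g) (IsLocalRing.closedPoint k) p
      (H.trans (congrArg g (Subsingleton.elim _ _)))
    exact ⟨z, hz⟩⟩
  haveI := isIso_of_isClosedImmersion_of_surjective (pullback.snd f g)
  have h1 : g = (inv (pullback.snd f g) ≫ pullback.fst f g) ≫ f := by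
    rw [Category.assoc, pullback.condition, IsIso.inv_hom_id_assoc]
  have h2 : g ≫ h = ((inv (pullback.snd f g) ≫ pullback.fst f g) ≫ f) ≫ h := congrArg (· ≫ h) h1
  rw [hg, Category.assoc _ f h, hf, Category.comp_id] at h2
  rw [h1, ← h2, Category.id_comp]

theorem comp_list_prod {J A B : Over (Spec (CommRingCat.of k))} [GrpObj J] (a : A ⟶ B) (l : List (B ⟶ J)) :
    a ≫ l.prod = (l.map (a ≫ ·)).prod := by
  induction l with
  | nil => simp [MonObj.comp_one]
  | cons b l ih => simp [MonObj.comp_mul, ih]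

end pts

variable (k : Type u) [Field k] (C : Scheme.{u}) [C.Over (Spec (CommRingCat.of k))]

/-- The curve. -/
abbrev Cc : Over (Spec (CommRingCat.of k)) := Over.mk (C ↘ Spec (CommRingCat.of k))

/-- The power of the curve. -/
abbrev Cp (n : ℕ) : Over (Spec (CommRingCat.of k)) :=
  Over.mk (WidePullback.base fun _ : Fin n => (C ↘ Spec (CommRingCat.of k)))

/-- The projections. -/
def pk (n : ℕ) (i : Fin n) : Cp k C n ⟶ Cc k C :=
  Over.homMk (WidePullback.π (fun _ : Fin n => (C ↘ Spec (CommRingCat.of k))) i)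
    (WidePullback.π_arrow (fun _ : Fin n => (C ↘ Spec (CommRingCat.of k))) i)

variable {k C} {J : Over (Spec (CommRingCat.of k))} [GrpObj J] (j : Cc k C ⟶ J)

/-- The sum map. -/
def q (n : ℕ) : Cp k C n ⟶ J :=
  (List.ofFn fun i : Fin n => (Over.homMk (WidePullback.π (fun _ : Fin n => (C ↘ Spec (CommRingCat.of k))) i)
    (WidePullback.π_arrow (fun _ : Fin n => (C ↘ Spec (CommRingCat.of k))) i) : Cp k C n ⟶ Cc k C) ≫ j).prod

/-- The products of `n` points of the image of the curve. -/
def W (n : ℕ) : Set (T₀ k ⟶ J) := {ξ | ∃ t : Fin n → (T₀ k ⟶ Cc k C), ξ = (List.ofFn fun i => t i ≫ j).prod}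

theorem comp_q {n : ℕ} (x : T₀ k ⟶ Cp k C n) :
    x ≫ q j n = (List.ofFn fun i => (x ≫ pk k C n i) ≫ j).prod := by
  rw [q, comp_list_prod, List.map_ofFn]
  simp [Function.comp_def, pk]

theorem comp_q_mem {n : ℕ} (x : T₀ k ⟶ Cp k C n) : x ≫ q j n ∈ W j n := ⟨_, comp_q j x⟩

theorem exists_comp_q {n : ℕ} {ξ : T₀ k ⟶ J} (h : ξ ∈ W j n) : ∃ x : T₀ k ⟶ Cp k C n, x ≫ q j n = ξ := by
  obtain ⟨t, rfl⟩ := h
  refine ⟨Over.homMk (WidePullback.lift (𝟙 _) (fun i => (t i).left) (fun i => Over.w (t i)))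
    (WidePullback.lift_base _ _ _ _), ?_⟩
  rw [comp_q]
  congr 2
  funext i
  congr 1
  exact Over.OverMorphism.ext (WidePullback.lift_π _ _ _ _ i)

theorem comp_transl (ξ a : T₀ k ⟶ J) : ξ ≫ Jac.transl J a = ξ * a := by
  rw [Jac.transl, MonObj.comp_mul, Category.comp_id, ← Category.assoc,
    show ξ ≫ toUnit J = 𝟙 _ from toUnit_unique _ _, Category.id_comp]

theorem transl_comp (a b : T₀ k ⟶ J) : Jac.transl J a ≫ Jac.transl J b = Jac.transl J (a * b) := by
  show Jac.transl J a ≫ (𝟙 J * (toUnit J ≫ b)) = _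
  rw [MonObj.comp_mul, Category.comp_id, ← Category.assoc,
    show Jac.transl J a ≫ toUnit J = toUnit J from toUnit_unique _ _, Jac.transl, Jac.transl, MonObj.comp_mul,
    _root_.mul_assoc]

theorem transl_one : Jac.transl J (1 : T₀ k ⟶ J) = 𝟙 J := by
  rw [Jac.transl, MonObj.comp_one, _root_.mul_one]

theorem image_transl (b : T₀ k ⟶ J) (R : Set ↥J.left) :
    (Jac.transl J b).left '' R = (Jac.transl J b⁻¹).left ⁻¹' R := by
  refine congrFun (Set.image_eq_preimage_of_inverse (fun y => ?_) (fun y => ?_)) R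
  · rw [← Scheme.Hom.comp_apply, ← Over.comp_left, transl_comp, _root_.mul_inv_cancel, transl_one]; rfl
  · rw [← Scheme.Hom.comp_apply, ← Over.comp_left, transl_comp, _root_.inv_mul_cancel, transl_one]; rfl

theorem transl_apply (ξ a : T₀ k ⟶ J) (p : ↥(T₀ k).left) :
    (Jac.transl J a).left (ξ.left p) = (ξ * a).left p := by
  rw [← comp_transl]; rfl

section proper

variable [IsProper (C ↘ Spec (CommRingCat.of k))]

theorem isProper_base (n : ℕ) : IsProper (WidePullback.base fun _ : Fin n => (C ↘ Spec (CommRingCat.of k))) :=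
  BlowUp6.prop_widePullback_base @IsProper (X := fun _ : Fin n => C) (fun _ : Fin n => (C ↘ Spec (CommRingCat.of k))) fun _ => inferInstance

theorem isClosed_range_q (n : ℕ) : IsClosed (Set.range (q j n).left) := by
  haveI := GrpSchField.isSeparated J
  haveI : IsProper ((q j n).left ≫ J.hom) := by rw [Over.w]; exact isProper_base n
  haveI : IsProper (q j n).left := IsProper.of_comp (q j n).left J.hom
  exact (q j n).left.isClosedMap.isClosed_range

variable [IsAlgClosed k]

theorem jacobson (n : ℕ) : JacobsonSpace ↥(Cp k C n).left := by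
  haveI := isProper_base (k := k) (C := C) n
  exact LocallyOfFiniteType.jacobsonSpace (WidePullback.base fun _ : Fin n => (C ↘ Spec (CommRingCat.of k)))

theorem exists_pt {n : ℕ} {z : ↥(Cp k C n).left} (hz : IsClosed ({z} : Set ↥(Cp k C n).left)) :
    ∃ x : T₀ k ⟶ Cp k C n, ∀ p, x.left p = z := by
  haveI := isProper_base (k := k) (C := C) n
  exact ⟨Over.homMk (pointOfClosedPoint (WidePullback.base fun _ : Fin n => (C ↘ Spec (CommRingCat.of k))) z hz) (pointOfClosedPoint_comp _ _ _),
    fun p => pointOfClosedPoint_apply _ _ _ p⟩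

theorem mem_range_q {n : ℕ} (ξ : T₀ k ⟶ J) :
    (∀ p, ξ.left p ∈ Set.range (q j n).left) ↔ ξ ∈ W j n := by
  haveI := GrpSchField.isSeparated J
  haveI : Subsingleton ↥(Spec (CommRingCat.of k)) := inferInstanceAs (Subsingleton (PrimeSpectrum k))
  constructor
  · intro h
    haveI := jacobson (k := k) (C := C) n
    have hξ : IsClosed ({ξ.left (IsLocalRing.closedPoint k)} : Set ↥J.left) := by
      haveI : IsClosedImmersion ξ.left := isClosedImmersion_of_comp_eq_id J.hom ξ.left (Over.w ξ)
      have := ξ.left.isClosedEmbedding.isClosedMap _ (isClosed_singleton (x := IsLocalRing.closedPoint k))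
      rwa [Set.image_singleton] at this
    obtain ⟨z₀, hz₀⟩ := h (IsLocalRing.closedPoint k)
    obtain ⟨z, hz, hzc⟩ := nonempty_inter_closedPoints (Z := (q j n).left ⁻¹' {ξ.left (IsLocalRing.closedPoint k)})
      ⟨z₀, hz₀⟩ (hξ.preimage (q j n).left.continuous).isLocallyClosed
    obtain ⟨x, hx⟩ := exists_pt hzc
    rw [show ξ = x ≫ q j n from Over.OverMorphism.ext (hom_ext_pt J.hom (Over.w ξ) (Over.w (x ≫ q j n))
      (hz.symm.trans (congrArg (q j n).left (hx _).symm)))]
    exact comp_q_mem j x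
  · intro h p
    obtain ⟨x, rfl⟩ := exists_comp_q j h
    exact ⟨x.left p, rfl⟩

theorem subset_iff (r n : ℕ) (a b : T₀ k ⟶ J) :
    (Jac.transl J a).left '' Set.range (q j r).left ⊆ (Jac.transl J b).left '' Set.range (q j n).left ↔
      ∀ η' ∈ W j r, η' * a * b⁻¹ ∈ W j n := by
  rw [image_transl b, Set.image_subset_iff, Set.range_subset_iff]
  constructor
  · intro h η' hη
    obtain ⟨x, rfl⟩ := exists_comp_q j hη
    refine (mem_range_q j _).1 fun p => ?_
    rw [← transl_apply, ← transl_apply]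
    exact h (x.left p)
  · intro h z
    haveI := jacobson (k := k) (C := C) r
    have hZ : IsClosed ((q j r).left ⁻¹' ((Jac.transl J a).left ⁻¹' ((Jac.transl J b⁻¹).left ⁻¹'
        Set.range (q j n).left))) :=
      ((isClosed_range_q j n).preimage (Jac.transl J b⁻¹).left.continuous).preimage
        (Jac.transl J a).left.continuous |>.preimage (q j r).left.continuous
    have hsub : closedPoints ↥(Cp k C r).left ⊆ (q j r).left ⁻¹' ((Jac.transl J a).left ⁻¹'
        ((Jac.transl J b⁻¹).left ⁻¹' Set.range (q j n).left)) := by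
      intro z hz
      obtain ⟨x, hx⟩ := exists_pt hz
      have := (mem_range_q j _).2 (h _ (comp_q_mem j x)) (IsLocalRing.closedPoint k)
      rw [← transl_apply, ← transl_apply] at this
      simp only [Set.mem_preimage]
      rw [← hx (IsLocalRing.closedPoint k)]
      exact this
    have := closure_minimal hsub hZ
    rw [closure_closedPoints] at this
    exact this trivial

end proper

section curve

variable [IsAlgClosed k] [IsIntegral C] [CurveRR.RegCurve C] [IsProper (C ↘ Spec (CommRingCat.of k))]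
  [Smooth (C ↘ Spec (CommRingCat.of k))] [GeometricallyConnected (C ↘ Spec (CommRingCat.of k))]
  {ψ : (ModFun.PicDeg (C ↘ Spec (CommRingCat.of k)) 0).Hom ⊤ J}

omit [IsAlgClosed k] [Smooth (C ↘ Spec (CommRingCat.of k))] [GeometricallyConnected (C ↘ Spec (CommRingCat.of k))] in
theorem exists_t [IsAlgClosed k] (R : CurveRR.CP C) : ∃ t : T₀ k ⟶ Cc k C, ∀ p, t.left p = R.1 :=
  ⟨Over.homMk (pointOfClosedPoint (C ↘ Spec (CommRingCat.of k)) R.1
      (CurvePoints.isClosed_singleton CurveRR.RegCurve.dim.le R.2)) (pointOfClosedPoint_comp _ _ _),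
    fun p => pointOfClosedPoint_apply _ _ _ p⟩

theorem pts_of_effective {K : Type u} [Field K] [Algebra k K] (h : GrothLib.FunFld.IsFG k K) :
    ∀ (n : ℕ) (E : _root_.FunFld.Divisor k K), 0 ≤ E → E.deg = n →
      ∃ P : Fin n → _root_.FunFld.Place k K, E = ∑ i, Finsupp.single (P i) 1
  | 0, E, hE, hd => by
    refine ⟨Fin.elim0, ?_⟩
    rw [Finset.univ_eq_empty, Finset.sum_empty]
    by_contra h0
    obtain ⟨P, hP⟩ := GrothLib.FunFld.exists_single_le hE h0
    have := GrothLib.FunFld.deg_mono hP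
    rw [GrothLib.FunFld.deg_single, h.deg_eq_one P, hd] at this
    simp at this
  | n + 1, E, hE, hd => by
    obtain ⟨P, hP⟩ := GrothLib.FunFld.exists_single_le hE (fun h0 => by
      rw [h0, GrothLib.FunFld.deg_zero] at hd; omega)
    obtain ⟨R, hR⟩ := pts_of_effective h n (E - Finsupp.single P 1) (sub_nonneg.2 hP) (by
      rw [GrothLib.FunFld.deg_sub, GrothLib.FunFld.deg_single, h.deg_eq_one P, hd]; push_cast; ring)
    refine ⟨Fin.cons P R, ?_⟩
    rw [Fin.sum_univ_succ, Fin.cons_zero]
    simp only [Fin.cons_succ]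
    rw [← hR, add_sub_cancel]

variable (hJ : Jac.IsJacobian (C ↘ Spec (CommRingCat.of k)) ⊤ J ψ) (hdim : topologicalKrullDim ↥C = 1)
  (σ : Spec (CommRingCat.of k) ⟶ C) (hσ : σ ≫ (C ↘ Spec (CommRingCat.of k)) = 𝟙 _)
  (hj : Jac.IsAbelJacobiAt (C ↘ Spec (CommRingCat.of k)) σ ψ j) (Q : CurveRR.CP C) (hQ : ∀ p, σ p = Q.1)

include hJ hdim hσ hj hQ in
theorem pt_prod : ∀ (n : ℕ) (t : Fin n → (T₀ k ⟶ Cc k C)) (R : Fin n → CurveRR.CP C),
    (∀ i p, (t i).left p = (R i).1) →
    Pt ψ ((∑ i, Finsupp.single (place k (R i)) 1) - (n : ℤ) • Finsupp.single (place k Q) 1)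
      (List.ofFn fun i => t i ≫ j).prod
  | 0, t, R, h => by
    simpa using Pt.one hJ
  | n + 1, t, R, h => by
    have h1 := (Pt.abel hdim σ hσ hj Q hQ (t 0) (R 0) (h 0)).mul hJ
      (pt_prod n (fun i => t i.succ) (fun i => R i.succ) (fun i => h i.succ))
    rw [List.ofFn_succ, List.prod_cons, Fin.sum_univ_succ]
    convert h1 using 1
    push_cast
    rw [add_smul, one_smul]
    abel

include hJ hdim hσ hj hQ in
theorem core [IsCommMonObj J] {g : ℕ} (hg : Curv2.genus k C = g) (n r : ℕ) (hnr : n + r = g - 1) (hg1 : 1 ≤ g)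
    (ξ : T₀ k ⟶ J) : (∀ η' ∈ W j r, η' * ξ ∈ W j (g - 1)) ↔ ξ ∈ W j n := by
  constructor
  swap
  · rintro ⟨t, rfl⟩ η' ⟨s, rfl⟩
    rw [show g - 1 = r + n by omega]
    refine ⟨Fin.append s t, ?_⟩
    rw [← List.prod_append, ← List.ofFn_fin_append]
    congr 2
    funext i
    induction i using Fin.addCases <;> simp
  intro hall
  have hfg := CurveRR.isFG (X := C) k
  have h0 := CurveMult.finrank_H0_eq_one_of_geometricallyConnected k (C := C)
  have hK := CurveRR.isFunctionField k h0
  have hgen := CurveRR.genus_eq k h0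
  rw [hg] at hgen
  obtain ⟨K, hKc⟩ := GrothLib.FunFld.exists_isCanonical hK
  obtain ⟨D, hD⟩ := Pt.exists_div hJ ξ
  set E0 := D + (n : ℤ) • Finsupp.single (place k Q) 1 with hE0
  have hdeg1 : ∀ R : CurveRR.CP C, (place k R).deg = 1 := fun R => hfg.deg_eq_one _
  have hdE0 : _root_.FunFld.Divisor.deg E0 = n := by
    rw [hE0, GrothLib.FunFld.deg_add, hD.deg_eq, Finsupp.smul_single, GrothLib.FunFld.deg_single, hdeg1]
    simp
  by_cases hell : 0 < _root_.FunFld.ell E0
  · obtain ⟨x, hx0, -, hx⟩ := hfg.exists_of_ell_pos hell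
    obtain ⟨P, hP⟩ := pts_of_effective hfg n _ hx (by
      rw [GrothLib.FunFld.deg_add, hfg.deg_div, hdE0, add_zero])
    choose R hR using fun i => CurveRR.place_surjective (X := C) (P i)
    choose t ht using fun i => exists_t (k := k) (R i)
    have hp := pt_prod j hJ hdim σ hσ hj Q hQ n t R ht
    have : (∑ i, Finsupp.single (place k (R i)) 1) - (n : ℤ) • Finsupp.single (place k Q) 1 - D =
        _root_.FunFld.div k x := by
      simp only [hR]
      rw [← hP, hE0]
      abel
    rw [hD.eq_of_sub_mem hp ?_]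
    · exact ⟨t, rfl⟩
    · rw [← neg_sub, this]
      exact neg_mem (AddSubgroup.subset_closure ⟨x, rfl⟩)
  exfalso
  have hRR := GrothLib.FunFld.riemann_roch' hK hKc E0
  rw [hdE0] at hRR
  obtain ⟨U, ⟨x₀, hx₀, hx₀U⟩, hU⟩ := CurveBase26.exists_open_indep' k (K - E0) (id : Fin r → Fin r)
    Function.injective_id (by omega) Set.finite_empty
  choose R hR hRd hRiso using fun i : Fin r => CurveBase26.exists_point k (X := C) hdim
    (x₀ ≫ WidePullback.π (fun _ : Fin r => (C ↘ Spec (CommRingCat.of k))) i)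
    (by rw [Category.assoc, WidePullback.π_arrow]; exact hx₀)
  obtain ⟨-, -, hind⟩ := hU x₀ hx₀ hx₀U R hR
  simp only [id] at hind
  let t : Fin r → (T₀ k ⟶ Cc k C) := fun i =>
    Over.homMk (x₀ ≫ WidePullback.π (fun _ : Fin r => (C ↘ Spec (CommRingCat.of k))) i)
      ((Category.assoc _ _ _).trans ((congrArg (x₀ ≫ ·) (WidePullback.π_arrow _ i)).trans hx₀))
  obtain ⟨t', ht'⟩ := hall _ ⟨t, rfl⟩
  choose R' hR' hRd' hRiso' using fun i => CurveBase26.exists_point k (X := C) hdim (t' i).left (Over.w (t' i))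
  have hp' := pt_prod j hJ hdim σ hσ hj Q hQ (g - 1) t' R' hR'
  rw [← ht'] at hp'
  have hmem := ((pt_prod j hJ hdim σ hσ hj Q hQ r t R hR).mul hJ hD).sub_mem hJ hp'
  set SR := ∑ i, (Finsupp.single (place k (R i)) 1 : _root_.FunFld.Divisor k C.functionField) with hSR
  set SR' := ∑ i, (Finsupp.single (place k (R' i)) 1 : _root_.FunFld.Divisor k C.functionField) with hSR'
  have hdSR : _root_.FunFld.Divisor.deg SR = r := by
    rw [hSR, GrothLib.FunFld.deg_sum]
    simp [GrothLib.FunFld.deg_single, hdeg1]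
  have hRR1 := GrothLib.FunFld.riemann_roch' hK hKc (E0 + SR)
  rw [GrothLib.FunFld.deg_add, hdE0, hdSR, show K - (E0 + SR) = K - E0 - SR by abel, hind] at hRR1
  have heq : E0 + SR - SR' = SR - (r : ℤ) • Finsupp.single (place k Q) 1 + D -
      (SR' - ((g - 1 : ℕ) : ℤ) • Finsupp.single (place k Q) 1) := by
    rw [← hnr, hE0]
    push_cast
    rw [add_smul]
    abel
  rw [← heq] at hmem
  obtain ⟨f, hf0, hf⟩ := (GrothLib.FunFld.mem_prinDivs_iff hfg _).1 hmem
  have hpos : 0 ≤ SR' := Finset.sum_nonneg fun i _ => Finsupp.single_nonneg.2 zero_le_one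
  have : 0 < _root_.FunFld.ell (E0 + SR) := by
    rw [show E0 + SR = SR' + _root_.FunFld.div k f by rw [hf]; abel, hfg.ell_add_div _ hf0]
    have h1 := GrothLib.FunFld.ell_zero hK
    have h2 := hfg.ell_mono hpos
    omega
  omega

end curve

end GrothLib.JacSym26
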