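import Groth.Agent.Lib.JacSym26.Points
import Groth.Agent.Lib.CurveMult.G12
import Groth.Agent.Lib.FunFld.CanonicalOrders
import Groth.Agent.Lib.CurveRR.Special

/-!
# Rigidity of a curve inside its Jacobian
-/

set_option autoImplicit false
set_option linter.all false
set_option backward.isDefEq.respectTransparency false
set_option maxHeartbeats 1000000
set_option synthInstance.maxHeartbeats 200000

universe u

open CategoryTheory CategoryTheory.Limits AlgebraicGeometry Opposite TopologicalSpace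
open CategoryTheory MonoidalCategory CartesianMonoidalCategory
open MonObj
open GrothLib.CurveRR (place oD)

noncomputable section

namespace GrothLib.JacSym26

theorem eq_of_ell_le_one {k K : Type u} [Field k] [Field K] [Algebra k K] (h : GrothLib.FunFld.IsFG k K)
    {D E : _root_.FunFld.Divisor k K} (hD : 0 ≤ D) (hE : 0 ≤ E) (hl : _root_.FunFld.ell D ≤ 1)
    (hDE : E - D ∈ _root_.FunFld.prinDivs k K) : E = D := by
  obtain ⟨f, hf0, hf⟩ := (GrothLib.FunFld.mem_prinDivs_iff h _).1 hDE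
  haveI := h.finite_L D
  have hfL : f ∈ _root_.FunFld.L D := (GrothLib.FunFld.mem_L_iff_ord hf0).2 fun P => by
    have h1 : (0 : ℤ) ≤ E P := hE P
    have h2 := DFunLike.congr_fun hf P
    rw [h.div_apply, Finsupp.sub_apply] at h2
    omega
  have h1L : (1 : K) ∈ _root_.FunFld.L D := (GrothLib.FunFld.mem_L_iff_ord one_ne_zero).2 fun P => by
    rw [GrothLib.FunFld.ord_one, zero_add]; exact hD P
  have hne : (⟨1, h1L⟩ : _root_.FunFld.L D) ≠ 0 := fun h0 => one_ne_zero (congrArg Subtype.val h0)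
  haveI : Nontrivial (_root_.FunFld.L D) := ⟨⟨_, _, hne⟩⟩
  have h1 : Module.finrank k (_root_.FunFld.L D) = 1 := le_antisymm hl Module.finrank_pos
  obtain ⟨c, hc⟩ := exists_smul_eq_of_finrank_eq_one h1 hne ⟨f, hfL⟩
  refine sub_eq_zero.1 ?_
  rw [← hf]
  ext P
  have hc' : c • (1 : K) = f := congrArg Subtype.val hc
  rw [h.div_apply, ← hc', ← Algebra.algebraMap_eq_smul_one, GrothLib.FunFld.ord_const]
  rfl

theorem exists_ne_three {k : Type u} [Field k] [IsAlgClosed k] {C : Scheme.{u}} [IsIntegral C] [CurveRR.RegCurve C]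
    [C.Over (Spec (CommRingCat.of k))] [IsProper (C ↘ Spec (CommRingCat.of k))] (R R' : CurveRR.CP C) :
    ∃ R'' : CurveRR.CP C, R'' ≠ R ∧ R'' ≠ R' := by
  classical
  obtain ⟨P, hP⟩ := CurveRR.FF.exists_place_notMem (CurveRR.isFG (X := C) k) {place k R, place k R'}
  obtain ⟨R'', rfl⟩ := CurveRR.place_surjective (k := k) (X := C) P
  refine ⟨R'', ?_, ?_⟩ <;> rintro rfl <;> exact hP (by simp)

variable {k : Type u} [Field k] [IsAlgClosed k] {C : Scheme.{u}} [C.Over (Spec (CommRingCat.of k))]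
  [IsIntegral C] [CurveRR.RegCurve C] [IsProper (C ↘ Spec (CommRingCat.of k))]
  [Smooth (C ↘ Spec (CommRingCat.of k))] [GeometricallyConnected (C ↘ Spec (CommRingCat.of k))]
  {J : Over (Spec (CommRingCat.of k))} [GrpObj J]
  {ψ : (ModFun.PicDeg (C ↘ Spec (CommRingCat.of k)) 0).Hom ⊤ J} (j : Cc k C ⟶ J)
  (hJ : Jac.IsJacobian (C ↘ Spec (CommRingCat.of k)) ⊤ J ψ) (hdim : topologicalKrullDim ↥C = 1)
  (σ : Spec (CommRingCat.of k) ⟶ C) (hσ : σ ≫ (C ↘ Spec (CommRingCat.of k)) = 𝟙 _)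
  (hj : Jac.IsAbelJacobiAt (C ↘ Spec (CommRingCat.of k)) σ ψ j) (Q : CurveRR.CP C) (hQ : ∀ p, σ p = Q.1)
  (hg2 : 2 ≤ Curv2.genus k C)

omit [Smooth (C ↘ Spec (CommRingCat.of k))] [GeometricallyConnected (C ↘ Spec (CommRingCat.of k))] in
theorem place_inj : Function.Injective (place (X := C) k) := CurveRR.place_injective

include hdim in
/-- The image point of a rational point under an endomorphism. -/
theorem exists_image (t : T₀ k ⟶ Cc k C) : ∃ R : CurveRR.CP C, ∀ p, t.left p = R.1 := by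
  obtain ⟨R, hR, -, -⟩ := CurveBase26.exists_point k (X := C) hdim t.left (Over.w t)
  exact ⟨R, hR⟩

include hdim in
theorem hom_eq_id (φ : Cc k C ⟶ Cc k C)
    (h : ∀ (t : T₀ k ⟶ Cc k C) (R R' : CurveRR.CP C), (∀ p, t.left p = R.1) → (∀ p, (t ≫ φ).left p = R'.1) → R' = R) :
    φ = 𝟙 _ := by
  refine Over.OverMorphism.ext ?_
  haveI : LocallyOfFiniteType (φ.left ≫ (C ↘ Spec (CommRingCat.of k))) := by
    rw [show φ.left ≫ (C ↘ Spec (CommRingCat.of k)) = C ↘ Spec (CommRingCat.of k) from Over.w φ]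
    infer_instance
  refine ext_of_apply_eq (X := C) (Y := C) (f := φ.left) (g := 𝟙 C) (C ↘ Spec (CommRingCat.of k)) Set.univ
    isClosed_univ.isLocallyClosed dense_univ (fun x _ hx => ?_) ((Over.w φ).trans (Category.id_comp _).symm)
  let R : CurveRR.CP C := ⟨x, (CurveRR.isClosed_iff_ne_genericPoint k x).1 hx⟩
  obtain ⟨t, ht⟩ := exists_t (k := k) R
  obtain ⟨R', hR'⟩ := exists_image hdim (t ≫ φ)
  have h1 := hR' (IsLocalRing.closedPoint k)
  rw [h t R R' ht hR'] at h1
  show φ.left x = x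
  conv_lhs => rw [show x = R.1 from rfl, ← ht (IsLocalRing.closedPoint k)]
  exact h1

include hJ hdim hσ hj hQ hg2 in
/-- A map that moves the Abel image by a translation is the identity. -/
theorem rigid [IsCommMonObj J] (φ : Cc k C ⟶ Cc k C) (d : T₀ k ⟶ J)
    (h : ∀ t : T₀ k ⟶ Cc k C, (t ≫ φ) ≫ j = t ≫ j * d) : φ = 𝟙 _ := by
  refine hom_eq_id hdim φ fun t R R' hR hR' => ?_
  by_contra hne
  have h0 := CurveMult.finrank_H0_eq_one_of_geometricallyConnected k (C := C)
  have hK := CurveRR.isFunctionField k h0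
  have hgen := CurveRR.genus_eq k h0
  have hfg := CurveRR.isFG (X := C) k
  have hdeg : ∀ S : CurveRR.CP C, (place k S).deg = 1 := fun S => hfg.deg_eq_one _
  have hnz : ∀ S : CurveRR.CP C, (0 : _root_.FunFld.Divisor k C.functionField) ≤ Finsupp.single (place k S) 1 :=
    fun S => Finsupp.single_nonneg.2 zero_le_one
  let Z : CurveRR.CP C → CurveRR.CP C → _root_.FunFld.Divisor k C.functionField := fun S S' =>
    Finsupp.single (place k S) 1 + Finsupp.single (place k S') 1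
  have hdZ : ∀ S S', (Z S S').deg = 2 := fun S S' => by
    simp only [Z, GrothLib.FunFld.deg_add, GrothLib.FunFld.deg_single, hdeg]; norm_num
  have key : ∀ (u : T₀ k ⟶ Cc k C) (S S' : CurveRR.CP C), (∀ p, u.left p = S.1) → (∀ p, (u ≫ φ).left p = S'.1) →
      Z R' S - Z R S' ∈ _root_.FunFld.prinDivs k C.functionField := by
    intro u S S' hS hS'
    have e : (t ≫ φ) ≫ j * (u ≫ j) = t ≫ j * ((u ≫ φ) ≫ j) := by
      rw [h, h, _root_.mul_assoc, mul_comm d]
    have p1 := (Pt.abel hdim σ hσ hj Q hQ _ _ hR').mul hJ (Pt.abel hdim σ hσ hj Q hQ _ _ hS)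
    have p2 := (Pt.abel hdim σ hσ hj Q hQ _ _ hR).mul hJ (Pt.abel hdim σ hσ hj Q hQ _ _ hS')
    rw [e] at p1
    have := p1.sub_mem hJ p2
    convert this using 1
    simp only [Z]
    abel
  have hbig : ∀ (u : T₀ k ⟶ Cc k C) (S S' : CurveRR.CP C), (∀ p, u.left p = S.1) → (∀ p, (u ≫ φ).left p = S'.1) →
      S ≠ R → 2 ≤ _root_.FunFld.ell (Z R S') := by
    intro u S S' hS hS' hSR
    by_contra hlt
    have e := eq_of_ell_le_one hfg (add_nonneg (hnz R) (hnz S')) (add_nonneg (hnz R') (hnz S)) (by simp only [Z] at hlt; omega)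
      (key u S S' hS hS')
    have e1 := DFunLike.congr_fun e (place k R)
    have hR'R : place k R' ≠ place k R := fun e2 => hne (place_inj e2)
    have hSR' : place k S ≠ place k R := fun e2 => hSR (place_inj e2)
    rw [Finsupp.add_apply, Finsupp.add_apply, Finsupp.single_eq_of_ne hR'R.symm, Finsupp.single_eq_of_ne hSR'.symm,
      Finsupp.single_eq_same] at e1
    have e2 : (0 : ℤ) ≤ (Finsupp.single (place k S') (1 : ℤ)) (place k R) := hnz S' _
    omega
  obtain ⟨S₁, hS₁, -⟩ := exists_ne_three (k := k) R R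
  obtain ⟨S₂, hS₂R, hS₂S₁⟩ := exists_ne_three (k := k) R S₁
  obtain ⟨u₁, hu₁⟩ := exists_t (k := k) S₁
  obtain ⟨u₂, hu₂⟩ := exists_t (k := k) S₂
  obtain ⟨S₁', hu₁'⟩ := exists_image hdim (u₁ ≫ φ)
  obtain ⟨S₂', hu₂'⟩ := exists_image hdim (u₂ ≫ φ)
  have hmem := CurveMult.sub_mem_prinDivs_of_g12 hK (by omega) (hdZ R S₂') (hdZ R S₁')
    (hbig u₂ S₂ S₂' hu₂ hu₂' hS₂R) (hbig u₁ S₁ S₁' hu₁ hu₁' hS₁)
  have hs : S₂' = S₁' := by
    refine place_inj (k := k) (Finsupp.single_left_injective (one_ne_zero (α := ℤ)) ?_)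
    refine eq_of_ell_le_one hfg (hnz S₁') (hnz S₂') (GrothLib.FunFld.ell_single_one hK (by omega) (hdeg S₁')).le ?_
    convert hmem using 1
    simp only [Z]
    abel
  have e := h u₂
  have e' := h u₁
  have p1 := Pt.abel hdim σ hσ hj Q hQ _ _ hu₁'
  have p2 := Pt.abel hdim σ hσ hj Q hQ _ _ hu₂'
  rw [hs] at p2
  have he : u₂ ≫ j = u₁ ≫ j := mul_right_cancel (b := d) (by
    rw [← e, ← e']; exact p2.eq_of_sub_mem p1 (by rw [sub_self]; exact zero_mem _))
  have q1 := Pt.abel hdim σ hσ hj Q hQ _ _ hu₁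
  have q2 := Pt.abel hdim σ hσ hj Q hQ _ _ hu₂
  rw [he] at q2
  refine hS₂S₁ (place_inj (k := k) (Finsupp.single_left_injective (one_ne_zero (α := ℤ)) ?_))
  refine eq_of_ell_le_one hfg (hnz S₁) (hnz S₂) (GrothLib.FunFld.ell_single_one hK (by omega) (hdeg S₁)).le ?_
  convert q2.sub_mem hJ q1 using 1
  abel

include hJ hdim hσ hj hQ hg2 in
/-- A map turning the Abel image into a translate of its inverse gives a pencil of degree two. -/
theorem exists_pencil (φ : Cc k C ⟶ Cc k C) (d : T₀ k ⟶ J)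
    (h : ∀ t : T₀ k ⟶ Cc k C, (t ≫ φ) ≫ j * (t ≫ j) = d) :
    ∃ D : _root_.FunFld.Divisor k C.functionField, D.deg = 2 ∧ _root_.FunFld.ell D = 2 := by
  have h0 := CurveMult.finrank_H0_eq_one_of_geometricallyConnected k (C := C)
  have hK := CurveRR.isFunctionField k h0
  have hgen := CurveRR.genus_eq k h0
  have hfg := CurveRR.isFG (X := C) k
  have hdeg : ∀ S : CurveRR.CP C, (place k S).deg = 1 := fun S => hfg.deg_eq_one _
  obtain ⟨t, ht⟩ := exists_t (k := k) Q
  obtain ⟨R', hR'⟩ := exists_image hdim (t ≫ φ)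
  obtain ⟨S, hSQ, hSR'⟩ := exists_ne_three (k := k) Q R'
  obtain ⟨u, hu⟩ := exists_t (k := k) S
  obtain ⟨S', hu'⟩ := exists_image hdim (u ≫ φ)
  have p1 := (Pt.abel hdim σ hσ hj Q hQ _ _ hu').mul hJ (Pt.abel hdim σ hσ hj Q hQ _ _ hu)
  have p2 := (Pt.abel hdim σ hσ hj Q hQ _ _ hR').mul hJ (Pt.abel hdim σ hσ hj Q hQ _ _ ht)
  rw [h] at p1 p2
  have hnz : ∀ S : CurveRR.CP C, (0 : _root_.FunFld.Divisor k C.functionField) ≤ Finsupp.single (place k S) 1 :=
    fun S => Finsupp.single_nonneg.2 zero_le_one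
  have hd : _root_.FunFld.Divisor.deg (Finsupp.single (place k R') 1 + Finsupp.single (place k Q) 1 :
      _root_.FunFld.Divisor k C.functionField) = 2 := by
    rw [GrothLib.FunFld.deg_add, GrothLib.FunFld.deg_single, GrothLib.FunFld.deg_single, hdeg, hdeg]; norm_num
  refine ⟨_, hd, le_antisymm ?_ ?_⟩
  · have := GrothLib.FunFld.ell_le_deg hK (by omega) _ (by rw [hd]; norm_num)
    rw [hd] at this
    exact_mod_cast this
  · by_contra hlt
    have e := eq_of_ell_le_one hfg (add_nonneg (hnz R') (hnz Q))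
      (add_nonneg (hnz S') (hnz S)) (by omega) (by convert p1.sub_mem hJ p2 using 1; abel)
    have e1 := DFunLike.congr_fun e (place k S)
    rw [Finsupp.add_apply, Finsupp.add_apply, Finsupp.single_eq_same,
      Finsupp.single_eq_of_ne (fun e2 => hSR' (place_inj e2)), Finsupp.single_eq_of_ne (fun e2 => hSQ (place_inj e2))] at e1
    have e2 : (0 : ℤ) ≤ (Finsupp.single (place k S') (1 : ℤ)) (place k S) := hnz S' _
    omega

end GrothLib.JacSym26
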